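import Groth.Agent.TwistLib.Basic
import Groth.Agent.TwistLib.PullGen
import Groth.Agent.RefHullLib.EvalStalk
import Groth.Agent.RefHullLib.Coherent
import Groth.Agent.AssPointLib.Basic
import Groth.Agent.QGorBCLib.InvStalk
import Groth.Agent.S2526

/-!
# A coherent module with a free stalk of rank one is invertible nearby; descent
-/

set_option autoImplicit false
set_option linter.style.haveILetI false
set_option backward.isDefEq.respectTransparency false
set_option backward.isDefEq.respectTransparency.types false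
set_option maxHeartbeats 1000000
set_option synthInstance.maxHeartbeats 200000

noncomputable section

universe u

open CategoryTheory CategoryTheory.Limits AlgebraicGeometry TopologicalSpace
open Groth.Agent
open scoped TensorProduct

namespace QGorDescLib

/-- A coherent module on a locally Noetherian scheme is invertible at a point where its stalk is free of rank one. -/
theorem invertibleAt_of_stalk {X : Scheme.{u}} [IsLocallyNoetherian X] {L : X.Modules} (hL : Coh.IsCoh L) {x : X}
    (e : L.presheaf.stalk x ≃ₗ[X.presheaf.stalk x] X.presheaf.stalk x) : RelCanon.InvertibleAt L x := by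
  classical
  haveI := hL.1
  obtain ⟨V, hxV, τ, hτ⟩ := L.presheaf.exists_germ_eq (x := x) (e.symm 1)
  obtain ⟨W, hW, hxW, hWV⟩ := exists_isAffineOpen_mem_and_subset (x := x) (U := V) hxV
  haveI : IsNoetherianRing Γ(X, W) := IsLocallyNoetherian.component_noetherian ⟨W, hW⟩
  obtain ⟨σ, hσ⟩ : ∃ σ : Γ(L, W), L.presheaf.germ W x hxW σ = e.symm 1 :=
    ⟨AmpleLib.res L hWV τ, (AmpleLib.germ_res L hWV τ hxW).trans hτ⟩
  have hfree : Function.Bijective fun c : X.presheaf.stalk x => c • L.presheaf.germ W x hxW σ := by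
    have : (fun c : X.presheaf.stalk x => c • L.presheaf.germ W x hxW σ) = e.symm := funext fun c => by
      rw [hσ, ← map_smul, smul_eq_mul, mul_one]
    rw [this]
    exact e.symm.bijective
  -- generators are multiples of `σ` near `x`
  obtain ⟨I, _, g, hg⟩ := QCohLib.exists_genOn_affine hL.2 hW
  choose c hc using fun i => hfree.2 (L.presheaf.germ W x hxW (g i))
  choose Wc hWc r hr using fun i => X.presheaf.exists_germ_eq (x := x) (c i)
  obtain ⟨W₁, hxW₁, hW₁W, hWc'⟩ := RefHullLib.exists_nhd_all x Wc hWc W hxW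
  obtain ⟨U₁, hU₁, hxU₁, hzero⟩ := RefHullLib.exists_nhd_zero (M := L) hxW₁
    (fun i => X.presheaf.map (homOfLE (hWc' i)).op (r i) • L.presheaf.map (homOfLE hW₁W).op σ -
      L.presheaf.map (homOfLE hW₁W).op (g i)) fun i => by
      rw [map_sub, Mero.germ_smul, TopCat.Presheaf.germ_res_apply, TopCat.Presheaf.germ_res_apply,
        TopCat.Presheaf.germ_res_apply, hr, sub_eq_zero]
      exact hc i
  -- the annihilator of `σ` vanishes near `x`
  let J : Ideal Γ(X, W) := LinearMap.ker (LinearMap.toSpanSingleton Γ(X, W) Γ(L, W) σ)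
  obtain ⟨s, hs⟩ := (IsNoetherian.noetherian J : J.FG)
  have hJx : ∀ a ∈ s, X.presheaf.germ W x hxW a = 0 := fun a ha => hfree.1 (by
    show X.presheaf.germ W x hxW a • _ = (0 : X.presheaf.stalk x) • _
    rw [zero_smul, ← Mero.germ_smul, show a • σ = 0 from hs.le (Submodule.subset_span ha), map_zero])
  haveI : IsNoetherianRing Γ(X, W) := ‹_›
  haveI : Coh.IsQCoh (Coh.structureModule X) := QCohLib.isQCoh_unit
  obtain ⟨U₂, hU₂, hxU₂, hzero₂⟩ := RefHullLib.exists_nhd_zero (M := Coh.structureModule X) hxW
    (fun a : s => (show Γ(Coh.structureModule X, W) from a.1)) fun a => by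
      obtain ⟨e₀⟩ := RefHullLib.nonempty_stalk_unit X x
      have h : (Coh.structureModule X).presheaf.germ W x hxW (show Γ(Coh.structureModule X, W) from a.1) =
          X.presheaf.germ W x hxW a.1 • (Coh.structureModule X).presheaf.germ W x hxW
            (show Γ(Coh.structureModule X, W) from (1 : Γ(X, W))) := by
        rw [← Mero.germ_smul]
        exact congrArg _ (mul_one a.1).symm
      rw [h, hJx a.1 a.2, zero_smul]
  let U := U₁ ⊓ U₂
  refine ⟨U, ⟨hxU₁, hxU₂⟩, TwistLib.nonempty_iso_of_genOn
    (AmpleLib.res L ((inf_le_left.trans hU₁).trans hW₁W) σ) (TwistLib.genOn_of_genAt fun y hy => ?_)⟩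
  have hyW : y ∈ W := ((inf_le_left.trans hU₁).trans hW₁W) hy
  show Function.Bijective fun a : X.presheaf.stalk y => a • L.presheaf.germ U y hy (AmpleLib.res L _ σ)
  rw [AmpleLib.germ_res]
  refine ⟨?_, fun z => ?_⟩
  · suffices h0 : ∀ a : X.presheaf.stalk y, a • L.presheaf.germ W y hyW σ = 0 → a = 0 from fun a b hab =>
      sub_eq_zero.1 (h0 _ (by rw [sub_smul]; exact sub_eq_zero.2 hab))
    intro a ha
    letI := Module.compHom (L.presheaf.stalk y) (X.presheaf.germ W y hyW).hom
    letI : Algebra Γ(X, W) (X.presheaf.stalk y) := (X.presheaf.germ W y hyW).hom.toAlgebra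
    haveI := FlatLib.isLocalizedModule_germLin L hW hyW
    haveI : IsLocalization.AtPrime (X.presheaf.stalk y) (hW.primeIdealOf ⟨y, hyW⟩).asIdeal :=
      hW.isLocalization_stalk ⟨y, hyW⟩
    obtain ⟨⟨r₀, v⟩, hrv⟩ := IsLocalization.surj (hW.primeIdealOf ⟨y, hyW⟩).asIdeal.primeCompl a
    change a * X.presheaf.germ W y hyW v.1 = X.presheaf.germ W y hyW r₀ at hrv
    have h1 : FlatLib.germLin L hyW (r₀ • σ) = FlatLib.germLin L hyW 0 := by
      show L.presheaf.germ W y hyW (r₀ • σ) = L.presheaf.germ W y hyW 0
      rw [Mero.germ_smul, ← hrv, map_zero, mul_comm, mul_smul, ha, smul_zero]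
    obtain ⟨w, hw⟩ := IsLocalizedModule.exists_of_eq (S := (hW.primeIdealOf ⟨y, hyW⟩).asIdeal.primeCompl) h1
    have hmem : w.1 * r₀ ∈ J := by
      show (w.1 * r₀) • σ = 0
      rw [mul_smul]
      exact hw.trans (smul_zero _)
    have hJy : ∀ b ∈ J, X.presheaf.germ W y hyW b = 0 := by
      intro b hb
      rw [← hs] at hb
      refine Submodule.span_induction (p := fun b _ => X.presheaf.germ W y hyW b = 0) (fun b hb => ?_)
        (map_zero _) (fun b b' _ _ h h' => by rw [map_add, h, h', add_zero])
        (fun c b _ h => by rw [smul_eq_mul, map_mul, h, mul_zero]) hb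
      have h := hzero₂ ⟨b, hb⟩ y hy.2
      have h' : (Coh.structureModule X).presheaf.germ W y hyW (show Γ(Coh.structureModule X, W) from b) =
          X.presheaf.germ W y hyW b • (Coh.structureModule X).presheaf.germ W y hyW
            (show Γ(Coh.structureModule X, W) from (1 : Γ(X, W))) := by
        rw [← Mero.germ_smul]
        exact congrArg _ (mul_one b).symm
      rw [h'] at h
      exact ((AmpleLib.one_genOn W).genAt hyW).1 (h.trans (zero_smul _ _).symm)
    have h2 := hJy _ hmem
    rw [map_mul] at h2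
    have hu := IsLocalization.map_units (X.presheaf.stalk y) w
    have hu' := IsLocalization.map_units (X.presheaf.stalk y) v
    exact hu'.mul_left_eq_zero.1 (hrv.trans (hu.mul_right_eq_zero.1 h2))
  · obtain ⟨d, rfl⟩ := RefHullLib.surjective_of_genOn hg y hyW z
    refine ⟨∑ i, d i * X.presheaf.germ (Wc i) y (hWc' i (hU₁ hy.1)) (r i), ?_⟩
    dsimp only
    rw [Fintype.linearCombination_apply, Finset.sum_smul]
    refine Finset.sum_congr rfl fun i _ => ?_
    have h1 := hzero i y hy.1
    rw [map_sub, Mero.germ_smul, TopCat.Presheaf.germ_res_apply, TopCat.Presheaf.germ_res_apply,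
      TopCat.Presheaf.germ_res_apply, sub_eq_zero] at h1
    rw [mul_smul, h1]

/-- Invertibility descends along flat morphisms. -/
theorem invertibleAt_descend {X' X : Scheme.{u}} [IsLocallyNoetherian X] [IsLocallyNoetherian X'] (p : X' ⟶ X)
    [Flat p] {L : X.Modules} (hL : Coh.IsCoh L) (x' : X')
    (h : RelCanon.InvertibleAt ((Scheme.Modules.pullback p).obj L) x') : RelCanon.InvertibleAt L (p x') := by
  obtain ⟨t⟩ := QGorBCLib.nonempty_stalk_equiv h
  letI : Algebra (X.presheaf.stalk (p x')) (X'.presheaf.stalk x') := (p.stalkMap x').hom.toAlgebra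
  haveI : Module.Flat (X.presheaf.stalk (p x')) (X'.presheaf.stalk x') := Flat.stalkMap p x'
  haveI : IsLocalHom (algebraMap (X.presheaf.stalk (p x')) (X'.presheaf.stalk x')) :=
    inferInstanceAs (IsLocalHom (p.stalkMap x').hom)
  haveI : Module.FaithfullyFlat (X.presheaf.stalk (p x')) (X'.presheaf.stalk x') :=
    Module.FaithfullyFlat.of_flat_of_isLocalHom
  haveI : Module.Finite (X.presheaf.stalk (p x')) (L.presheaf.stalk (p x')) := ZClosLib.finite_stalk hL (p x')
  let e : X'.presheaf.stalk x' ⊗[X.presheaf.stalk (p x')] L.presheaf.stalk (p x') ≃ₗ[X'.presheaf.stalk x']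
      X'.presheaf.stalk x' :=
    (((KFlatLib.stalkPullIso p x').symm.app L).toLinearEquiv).trans t
  haveI : Module.Flat (X.presheaf.stalk (p x'))
      (X'.presheaf.stalk x' ⊗[X.presheaf.stalk (p x')] L.presheaf.stalk (p x')) :=
    Module.Flat.of_linearEquiv (e.restrictScalars (X.presheaf.stalk (p x')))
  haveI : Module.Flat (X.presheaf.stalk (p x')) (L.presheaf.stalk (p x')) :=
    Groth.Agent.S2526.flat_of_tensor (R := X.presheaf.stalk (p x')) (A := X.presheaf.stalk (p x'))
      (B := X'.presheaf.stalk x')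
  haveI : Module.Free (X.presheaf.stalk (p x')) (L.presheaf.stalk (p x')) := Module.free_of_flat_of_isLocalRing
  have hrank : Module.finrank (X.presheaf.stalk (p x')) (L.presheaf.stalk (p x')) = 1 := by
    rw [← Module.finrank_baseChange (R := X'.presheaf.stalk x') (S := X.presheaf.stalk (p x')) (M' := L.presheaf.stalk (p x')),
      e.finrank_eq, Module.finrank_self]
  exact invertibleAt_of_stalk hL (LinearEquiv.ofFinrankEq _ _ (by rw [hrank, Module.finrank_self]))

end QGorDescLib
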