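import Groth.Agent.QGorBCLib.Step
import Groth.Agent.QGorDescLib.Invert
import Groth.Agent.FlatFunShLib.Basic
import Groth.Agent.S2871

/-!
# Descent of `ℚ`-Gorenstein families along faithfully flat base change
-/

set_option autoImplicit false
set_option linter.style.haveILetI false
set_option linter.unusedSectionVars false
set_option backward.isDefEq.respectTransparency false
set_option backward.isDefEq.respectTransparency.types false
set_option maxHeartbeats 1000000
set_option synthInstance.maxHeartbeats 200000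

noncomputable section

universe u

open CategoryTheory CategoryTheory.Limits AlgebraicGeometry
open Groth.Agent

attribute [local instance] HasDerivedCategory.standard

namespace QGorDescLib

/-- The depth of a flat pullback at a point minimal in its fibre is the depth downstairs. -/
theorem depth_pullback_eq_of_minimal {X' X : Scheme.{u}} [IsLocallyNoetherian X] [IsLocallyNoetherian X'] (a : X' ⟶ X)
    [Flat a] (N : X.Modules) (hN : Coh.IsCoh N) (w : X') (hmin : ∀ v : X', v ⤳ w → a v = a w → v = w) :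
    LocCoh.depth (X'.presheaf.stalk w) (((Scheme.Modules.pullback a).obj N).presheaf.stalk w) =
      LocCoh.depth (X.presheaf.stalk (a w)) (N.presheaf.stalk (a w)) := by
  letI : Algebra (X.presheaf.stalk (a w)) (X'.presheaf.stalk w) := (a.stalkMap w).hom.toAlgebra
  haveI : Module.Flat (X.presheaf.stalk (a w)) (X'.presheaf.stalk w) := Flat.stalkMap a w
  haveI : IsLocalHom (algebraMap (X.presheaf.stalk (a w)) (X'.presheaf.stalk w)) :=
    inferInstanceAs (IsLocalHom (a.stalkMap w).hom)
  haveI : Module.Finite (X.presheaf.stalk (a w)) (N.presheaf.stalk (a w)) := ZClosLib.finite_stalk hN (a w)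
  let e : TensorProduct (X.presheaf.stalk (a w)) (X'.presheaf.stalk w) (N.presheaf.stalk (a w))
      ≃ₗ[X'.presheaf.stalk w] ((Scheme.Modules.pullback a).obj N).presheaf.stalk w :=
    ((KFlatLib.stalkPullIso a w).symm.app N).toLinearEquiv
  rw [← CommAlgDim.depth_congr e]
  refine DepthOpenLib.depth_tensor_eq _ fun Q hQ hle => ?_
  have hcomap : Q.comap (algebraMap (X.presheaf.stalk (a w)) (X'.presheaf.stalk w)) =
      IsLocalRing.maximalIdeal (X.presheaf.stalk (a w)) :=
    ((IsLocalRing.maximalIdeal.isMaximal _).eq_of_le (Ideal.IsPrime.ne_top (hQ.comap _))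
      (Ideal.map_le_iff_le_comap.1 hle)).symm
  let v : X' := EquidimLib.stalkPt w ⟨Q, hQ⟩
  have hgv : a v = a w := by
    change (X'.fromSpecStalk w ≫ a) ⟨Q, hQ⟩ = _
    rw [← Scheme.SpecMap_stalkMap_fromSpecStalk, Scheme.Hom.comp_apply,
      show (Spec.map (a.stalkMap w)) ⟨Q, hQ⟩ = IsLocalRing.closedPoint (X.presheaf.stalk (a w)) from
        PrimeSpectrum.ext hcomap,
      Scheme.fromSpecStalk_closedPoint]
  have hvw := hmin v (EquidimLib.stalkPt_specializes w _) hgv
  have h2 : EquidimLib.stalkPt w (IsLocalRing.closedPoint (X'.presheaf.stalk w)) = w :=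
    Scheme.fromSpecStalk_closedPoint
  exact congrArg PrimeSpectrum.asIdeal (EquidimLib.stalkPt_injective w (hvw.trans h2.symm))

/-- A surjective map has, over each point, a point minimal in its fibre. -/
theorem exists_minimal_preimage {X' X : Scheme.{u}} (a : X' ⟶ X) [Surjective a] (z : X) :
    ∃ w : X', a w = z ∧ ∀ v : X', v ⤳ w → a v = a w → v = w := by
  obtain ⟨w₀, hw₀⟩ := a.surjective z
  obtain ⟨q₀, -⟩ : ∃ q, a.fiberι z q = w₀ := (a.range_fiberι z).ge hw₀
  obtain ⟨ξ, -, hmax⟩ := AlgSpLib.exists_maximal_generization q₀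
  refine ⟨a.fiberι z ξ, (a.range_fiberι z).le ⟨ξ, rfl⟩, fun v hv hav => ?_⟩
  obtain ⟨q, rfl⟩ : ∃ q, a.fiberι z q = v :=
    (a.range_fiberι z).ge (hav.trans ((a.range_fiberι z).le ⟨ξ, rfl⟩))
  exact congrArg (a.fiberι z) (hmax q ((a.fiberι z).isEmbedding.isInducing.specializes_iff.1 hv))

/-- Over each point of the source of a faithfully flat base change, a point of the same fibre depth. -/
theorem exists_fiberDepth_eq {X S X' S' : Scheme.{u}} {f : X ⟶ S} [LocallyOfFiniteType f] {g : S' ⟶ S} [Surjective g]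
    {g' : X' ⟶ X} {f' : X' ⟶ S'} (hc : IsPullback g' f' f g) {M : X.Modules} (hM : Coh.IsCoh M) (z : X) :
    ∃ z' : X', g' z' = z ∧
      CInt.fiberDepth f' ((Scheme.Modules.pullback g').obj M) z' = CInt.fiberDepth f M z := by
  haveI : LocallyOfFiniteType f' := MorphismProperty.of_isPullback hc ‹_›
  have key : ∀ {P T : Scheme.{u}} (h : P ⟶ T) (N : P.Modules) (s : T) (v : h.fiber s) (z : P), h.fiberι s v = z →
      LocCoh.depth ((h.fiber s).presheaf.stalk v)
        (((Scheme.Modules.pullback (h.fiberι s)).obj N).presheaf.stalk v) = CInt.fiberDepth h N z := by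
    rintro P T h N s v z rfl
    have hs : h (h.fiberι s v) = s := (h.range_fiberι s).le ⟨v, rfl⟩
    generalize hz : h.fiberι s v = z at hs ⊢
    subst hs
    obtain rfl : h.asFiber z = v :=
      (h.fiberι _).isEmbedding.injective ((h.fiberι_asFiber z).trans hz.symm)
    rfl
  obtain ⟨t', ht'⟩ := g.surjective (f z)
  have h := isPullback_fiberToSpecResidueField_of_isPullback hc t'
  let a := pullback.lift (f'.fiberι t' ≫ g') (f'.fiberToSpecResidueField t' ≫
      Spec.map (g.residueFieldMap t')) (by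
    rw [Category.assoc, Category.assoc, hc.w, Scheme.Hom.SpecMap_residueFieldMap_fromSpecResidueField]
    exact pullback.condition_assoc _) (f := f) (g := S.fromSpecResidueField (g t'))
  have ha : a ≫ f.fiberι (g t') = f'.fiberι t' ≫ g' := pullback.lift_fst _ _ _
  replace h : IsPullback a (f'.fiberToSpecResidueField t') (f.fiberToSpecResidueField (g t'))
      (Spec.map (g.residueFieldMap t')) := h
  haveI : Flat (Spec.map (g.residueFieldMap t')) := by
    rw [HasRingHomProperty.Spec_iff (P := @Flat)]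
    letI := (g.residueFieldMap t').hom.toAlgebra
    exact RingHom.flat_algebraMap_iff.2 inferInstance
  haveI : Flat a := MorphismProperty.of_isPullback h.flip ‹Flat (Spec.map _)›
  haveI : Surjective (Spec.map (g.residueFieldMap t')) :=
    ⟨fun x => ⟨default, @Subsingleton.elim _ (inferInstanceAs (Subsingleton (PrimeSpectrum (S.residueField (g t'))))) _ _⟩⟩
  haveI : Surjective a := MorphismProperty.of_isPullback (P := @Surjective) h.flip ‹_›
  haveI : IsLocallyNoetherian (f.fiber (g t')) :=
    haveI := UOpenLib.lft_fiberToSpec f (g t')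
    LocallyOfFiniteType.isLocallyNoetherian (f.fiberToSpecResidueField (g t'))
  haveI : IsLocallyNoetherian (f'.fiber t') :=
    haveI := UOpenLib.lft_fiberToSpec f' t'
    LocallyOfFiniteType.isLocallyNoetherian (f'.fiberToSpecResidueField t')
  obtain ⟨v, hv⟩ : z ∈ Set.range (f.fiberι (g t')) := (f.range_fiberι _).ge ht'.symm
  obtain ⟨w, hw, hmin⟩ := exists_minimal_preimage a v
  refine ⟨f'.fiberι t' w, ?_, ?_⟩
  · rw [← Scheme.Hom.comp_apply, ← ha, Scheme.Hom.comp_apply, hw]
    exact hv
  · rw [← key f' _ t' w _ rfl, ← key f M (g t') v z hv]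
    let e : (Scheme.Modules.pullback (f'.fiberι t')).obj ((Scheme.Modules.pullback g').obj M) ≅
        (Scheme.Modules.pullback a).obj ((Scheme.Modules.pullback (f.fiberι (g t'))).obj M) :=
      (Scheme.Modules.pullbackComp (f'.fiberι t') g').app M ≪≫ (Scheme.Modules.pullbackCongr ha.symm).app M ≪≫
        ((Scheme.Modules.pullbackComp a (f.fiberι (g t'))).app M).symm
    rw [QGorBCLib.depth_congr_iso e, depth_pullback_eq_of_minimal a _ (ConsLib.isCoh_pullback _ hM) w hmin, hw]
    rfl

variable {A : Type u} [CommRing A] [IsNoetherianRing A] {Y : Scheme.{u}} [Y.Over (Spec (CommRingCat.of A))]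
  [IsProper (Y ↘ Spec (CommRingCat.of A))] [Flat (Y ↘ Spec (CommRingCat.of A))] {d : ℕ}
  (hd : Cyc.HasRelDim (Y ↘ Spec (CommRingCat.of A)) d) {ω : Y.Modules}
  (hω : RelCanon.IsDualizingSheaf A Y d ω)
  (hS : RelCanon.IsSkMor (Y ↘ Spec (CommRingCat.of A)) 2)
  (hG : ∀ y : Y, y ∉ RelCanon.gorLocus (Y ↘ Spec (CommRingCat.of A)) → (2 : WithBot ℕ∞) ≤
    ringKrullDim (((Y ↘ Spec (CommRingCat.of A)).fiber ((Y ↘ Spec (CommRingCat.of A)) y)).presheaf.stalk
      ((Y ↘ Spec (CommRingCat.of A)).asFiber y)))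
  {B : Type u} [CommRing B] [IsNoetherianRing B] {Y' : Scheme.{u}} [Y'.Over (Spec (CommRingCat.of B))]
  {g : Spec (CommRingCat.of B) ⟶ Spec (CommRingCat.of A)} [Flat g] {p : Y' ⟶ Y}
  (sq : IsPullback p (Y' ↘ Spec (CommRingCat.of B)) (Y ↘ Spec (CommRingCat.of A)) g)
  {ω' : Y'.Modules} (hω' : RelCanon.IsDualizingSheaf B Y' d ω')

include hd hω hS hG sq hω' in
/-- Reflexive powers of the relative canonical sheaf commute with flat base change. -/
theorem nonempty_pullback_refPowZ_iso (m : ℤ) :
    Nonempty ((Scheme.Modules.pullback p).obj (RelCanon.refPowZ ω m) ≅ RelCanon.refPowZ ω' m) := by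
  let f := Y ↘ Spec (CommRingCat.of A)
  haveI : IsNoetherianRing (CommRingCat.of A) := ‹IsNoetherianRing A›
  haveI : IsNoetherianRing (CommRingCat.of B) := ‹IsNoetherianRing B›
  haveI : IsProper (Y' ↘ Spec (CommRingCat.of B)) :=
    MorphismProperty.of_isPullback (P := @IsProper) sq inferInstance
  haveI : IsLocallyNoetherian Y := LocallyOfFiniteType.isLocallyNoetherian f
  haveI : IsLocallyNoetherian Y' := LocallyOfFiniteType.isLocallyNoetherian (Y' ↘ Spec (CommRingCat.of B))
  haveI : Flat p := MorphismProperty.of_isPullback sq.flip ‹Flat g›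
  let U := QGorBCLib.gorOpen A Y
  have hc := QGorBCLib.isCoh_refPowZ (QGorSecLib.isCoh_dualizing hd hω) m
  haveI := hc.1
  have sq₀ : IsPullback (𝟙 Y) f f (𝟙 (Spec (CommRingCat.of A))) := IsPullback.of_horiz_isIso ⟨by simp⟩
  have hext : QGorSecLib.Extends U (RelCanon.refPowZ ω m) :=
    QGorBCLib.extends_refPowZ_baseChange hS hG sq₀ ω m
  obtain ⟨e⟩ := QGorBCLib.nonempty_refPowZ_restrict_iso hd hω hS hG sq hω' m
  refine ⟨QGorBCLib.isoOfExtends (p ⁻¹ᵁ U) (fun V => ?_) (QGorBCLib.extends_refPowZ_baseChange hS hG sq ω' m) e⟩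
  refine (LocSuppLib.depth_two_iff_bijective (p ⁻¹ᵁ U) (ConsLib.isCoh_pullback p hc)).1 (fun x hx => ?_) V
  exact ((LocSuppLib.depth_two_iff_bijective U hc).2 hext (p x) hx).trans
    (QGorBCLib.depth_le_depth_pullback p _ hc x)

include hd hω hS hG sq hω' in
/-- `ℚ`-Gorenstein descends. -/
theorem isQGorWith_descend [Surjective g] (h : RelCanon.IsQGorWith ω') : RelCanon.IsQGorWith ω := fun y => by
  haveI : IsNoetherianRing (CommRingCat.of A) := ‹IsNoetherianRing A›
  haveI : IsNoetherianRing (CommRingCat.of B) := ‹IsNoetherianRing B›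
  haveI : IsProper (Y' ↘ Spec (CommRingCat.of B)) :=
    MorphismProperty.of_isPullback (P := @IsProper) sq inferInstance
  haveI : IsLocallyNoetherian Y := LocallyOfFiniteType.isLocallyNoetherian (Y ↘ Spec (CommRingCat.of A))
  haveI : IsLocallyNoetherian Y' := LocallyOfFiniteType.isLocallyNoetherian (Y' ↘ Spec (CommRingCat.of B))
  haveI : Flat p := MorphismProperty.of_isPullback sq.flip ‹Flat g›
  haveI : Surjective p := MorphismProperty.of_isPullback (P := @Surjective) sq.flip ‹Surjective g›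
  obtain ⟨y', rfl⟩ := p.surjective y
  obtain ⟨r, hr, hinv⟩ := h y'
  obtain ⟨e⟩ := nonempty_pullback_refPowZ_iso hd hω hS hG sq hω' r
  exact ⟨r, hr, invertibleAt_descend p (QGorBCLib.isCoh_refPowZ (QGorSecLib.isCoh_dualizing hd hω) r) y'
    (QGorBCLib.invertibleAt_of_iso e.symm hinv)⟩

include hd hω hS hG sq hω' in
/-- Relative `S₂` of a reflexive power descends. -/
theorem relSk_refPowZ_descend [Surjective g] (m : ℤ)
    (h2 : RelCanon.RelSk (Y' ↘ Spec (CommRingCat.of B)) 2 (RelCanon.refPowZ ω' m)) :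
    RelCanon.RelSk (Y ↘ Spec (CommRingCat.of A)) 2 (RelCanon.refPowZ ω m) := by
  let f := Y ↘ Spec (CommRingCat.of A)
  let f' := Y' ↘ Spec (CommRingCat.of B)
  haveI : IsNoetherianRing (CommRingCat.of A) := ‹IsNoetherianRing A›
  haveI : IsNoetherianRing (CommRingCat.of B) := ‹IsNoetherianRing B›
  haveI : IsProper f' := MorphismProperty.of_isPullback (P := @IsProper) sq inferInstance
  haveI : IsLocallyNoetherian Y := LocallyOfFiniteType.isLocallyNoetherian f
  haveI : IsLocallyNoetherian Y' := LocallyOfFiniteType.isLocallyNoetherian f'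
  haveI : Flat p := MorphismProperty.of_isPullback sq.flip ‹Flat g›
  haveI : Surjective p := MorphismProperty.of_isPullback (P := @Surjective) sq.flip ‹Surjective g›
  obtain ⟨e⟩ := nonempty_pullback_refPowZ_iso hd hω hS hG sq hω' m
  let L := RelCanon.refPowZ ω m
  let U := QGorBCLib.gorOpen A Y
  have hc := QGorBCLib.isCoh_refPowZ (QGorSecLib.isCoh_dualizing hd hω) m
  have hc' := QGorBCLib.isCoh_refPowZ (QGorSecLib.isCoh_dualizing (FibDimLib.hasRelDim_baseChange sq hd) hω') m
  haveI := hc.1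
  haveI := hc'.1
  have hinvU : ∀ z ∈ U, RelCanon.InvertibleAt L z := fun z hz => QGorBCLib.invertibleAt_of_isInvertible_restrict
    (QGorBCLib.isInvertible_refPowZ_restrict (QGorSecLib.isCoh_dualizing hd hω)
      (QGorBCLib.isInvertible_gorOpen hd hω) m) z hz
  have hs' : CohB1.support (RelCanon.refPowZ ω' m) = Set.univ :=
    QGorBCLib.support_eq_univ f' hc' (p ⁻¹ᵁ U) (fun x hx => QGorBCLib.two_le_dim_baseChange sq hG x hx)
      fun x hx => QGorBCLib.mem_support_of_invertibleAt
        (QGorBCLib.invertibleAt_of_iso e (QGorBCLib.invertibleAt_pullback p (hinvU _ hx)))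
  intro y
  refine ⟨?_, ?_⟩
  · obtain ⟨y', rfl⟩ := p.surjective y
    exact FlatFunShLib.isFlatOverAt_of_pullback sq.w L y'
      ((RichLib.ModFlat.isFlatOverAt_iso f' e.symm y').1 (h2 y').1)
  haveI : IsLocallyNoetherian (f.fiber (f y)) :=
    haveI := UOpenLib.lft_fiberToSpec f (f y)
    LocallyOfFiniteType.isLocallyNoetherian (f.fiberToSpecResidueField (f y))
  refine (DepthLib.hasSk_pullback_stalk_iff (f.fiberι (f y)) _ hc.2 (f.asFiber y) 2).2 ?_
  refine (DepthLib.forall_specializes_fiber_iff f (fun s w => min ((2 : ℕ) : WithBot ℕ∞)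
    (Module.supportDim ((f.fiber s).presheaf.stalk w)
      (((Scheme.Modules.pullback (f.fiberι s)).obj L).presheaf.stalk w)) ≤
    ((LocCoh.depth ((f.fiber s).presheaf.stalk w)
      (((Scheme.Modules.pullback (f.fiberι s)).obj L).presheaf.stalk w) : ℕ∞) :
        WithBot ℕ∞)) y).2 fun z _ _ => ?_
  by_cases hz : z ∈ U
  · obtain ⟨e₀⟩ := QGorBCLib.nonempty_stalk_equiv (QGorBCLib.invertibleAt_pullback (f.fiberι (f z)) (x' := f.asFiber z)
      (by rw [f.fiberι_asFiber]; exact hinvU z hz))
    have hcm := CMFlatLib.cm_of_gorenstein hz.2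
    rw [Module.supportDim_eq_of_equiv e₀, CommAlgDim.depth_congr e₀, hcm.supportDim_eq_depth]
    exact min_le_right _ _
  · refine (min_le_left _ _).trans (WithBot.coe_le_coe.2 ?_)
    obtain ⟨z', hz', hdep⟩ := exists_fiberDepth_eq sq hc z
    have hz'U : z' ∉ p ⁻¹ᵁ U := fun hh => hz (hz' ▸ hh)
    have h := QGorBCLib.two_le_fiberDepth f' hc' hs' z' (h2 z').2 (QGorBCLib.two_le_dim_baseChange sq hG z' hz'U)
    have h' : (2 : ℕ∞) ≤ CInt.fiberDepth f' ((Scheme.Modules.pullback p).obj L) z' :=
      h.trans (le_of_eq (QGorBCLib.depth_congr_iso ((Scheme.Modules.pullback (f'.fiberι (f' z'))).mapIso e.symm) _))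
    rw [hdep] at h'
    exact h'

end QGorDescLib
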